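import Mathlib
import Cfsg.Agent.S0205
import Cfsg.Agent.Lib.RankOneSetup.HalfTransitive
import Cfsg.Agent.Lib.Solvable.Fitting
import Cfsg.Agent.Lib.Cores.Fitting

/-!
An odd order group acting on an elementary abelian 2-group such that the elements inverted by an
automorphism `τ` act transitively on the nonidentity elements and those fixed by `τ` fix a point.
Then the inverted elements form a cyclic normal subgroup and the fixed elements form a cyclic group
(they act as field automorphisms).
-/

set_option autoImplicit false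
set_option linter.style.haveILetI false

namespace CfsgLib.SmallGroups.RankOneCyclic

open Cfsg

variable {D Z : Type*} [Group D] [CommGroup Z]

/-- The hypotheses, for a faithful action. -/
structure Dat (τ : MulAut D) (φ : D →* MulAut Z) (s₀ : Z) : Prop where
  inj : Function.Injective φ
  invol : ∀ d, τ (τ d) = d
  odd : Odd (Nat.card D)
  sq : ∀ z : Z, z ^ 2 = 1
  ne : s₀ ≠ 1
  fix : ∀ v, τ v = v → φ v s₀ = s₀
  trans : ∀ z, z ≠ 1 → ∃ k, τ k = k⁻¹ ∧ φ k s₀ = z

variable [Finite D] {τ : MulAut D} {φ : D →* MulAut Z} {s₀ : Z}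

omit [Finite D] in
theorem eq_one_of_inv_eq_of_odd (hodd : Odd (Nat.card D)) {x : D} (h : x⁻¹ = x) : x = 1 := by
  obtain ⟨n, hn⟩ := hodd
  have h1 : x * x = 1 := by
    nth_rw 1 [← h]
    rw [inv_mul_cancel]
  have h2 : x ^ (2 * n + 1) = 1 := by rw [← hn]; exact pow_card_eq_one'
  rwa [pow_succ, pow_mul, sq, h1, one_pow, one_mul] at h2

theorem Dat.finite (h : Dat τ φ s₀) : Finite Z := by
  classical
  refine Finite.of_surjective (fun d : Option D => d.elim 1 (fun k => φ k s₀)) fun z => ?_
  rcases eq_or_ne z 1 with rfl | hz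
  · exact ⟨none, rfl⟩
  · obtain ⟨k, -, hk⟩ := h.trans z hz
    exact ⟨some k, hk⟩

theorem Dat.cyclic_semiregular (h : Dat τ φ s₀) {p : ℕ} [Fact p.Prime] (hp2 : p ≠ 2)
    (R : Subgroup D) [R.Normal] (hR : IsPGroup p R) :
    IsCyclic R ∧ ∀ g ∈ R, g ≠ 1 → ∀ z : Z, φ g z = z → z = 1 := by
  haveI := h.finite
  letI : DistribMulAction ↥R (Additive Z) :=
    { smul := fun g e => Additive.ofMul (φ (g : D) (Additive.toMul e))
      one_smul := fun e => by
        show Additive.ofMul (φ ((1 : R) : D) (Additive.toMul e)) = e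
        simp
      mul_smul := fun g g' e => by
        show Additive.ofMul (φ ((g * g' : R) : D) (Additive.toMul e)) =
          Additive.ofMul (φ (g : D) (φ (g' : D) (Additive.toMul e)))
        simp
      smul_zero := fun g => by
        show Additive.ofMul (φ (g : D) 1) = 0
        simp
      smul_add := fun g e e' => by
        show Additive.ofMul (φ (g : D) (Additive.toMul e * Additive.toMul e')) = _
        rw [map_mul]
        rfl }
  have hsmul : ∀ (g : R) (z : Z), g • Additive.ofMul z = Additive.ofMul (φ (g : D) z) :=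
    fun g z => rfl
  haveI : FaithfulSMul ↥R (Additive Z) := ⟨fun {g g'} hgg => Subtype.ext (h.inj
    (MulEquiv.ext fun z => hgg (Additive.ofMul z)))⟩
  have hd : ∀ z : Z, z ≠ 1 → ∃ k : D, φ k s₀ = z := fun z hz =>
    let ⟨k, _, hk⟩ := h.trans z hz; ⟨k, hk⟩
  have hconst : ∀ a b : Additive Z, a ≠ 0 → b ≠ 0 →
      Nat.card (MulAction.stabilizer ↥R a) = Nat.card (MulAction.stabilizer ↥R b) := by
    intro a b ha hb
    obtain ⟨i, hi⟩ := hd (Additive.toMul a) ha
    obtain ⟨j, hj⟩ := hd (Additive.toMul b) hb
    set d := j * i⁻¹ with hddef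
    have hdab : φ d (Additive.toMul a) = Additive.toMul b := by
      rw [hddef, map_mul, map_inv, MulAut.mul_apply, ← hi, MulAut.inv_apply_self, hj]
    refine Nat.card_congr
      { toFun := fun g => ⟨⟨d * ((g : R) : D) * d⁻¹, ‹R.Normal›.conj_mem _ (g : R).2 d⟩, ?_⟩
        invFun := fun g => ⟨⟨d⁻¹ * ((g : R) : D) * d, by
          simpa using ‹R.Normal›.conj_mem _ (g : R).2 d⁻¹⟩, ?_⟩
        left_inv := fun g => by ext; simp [mul_assoc]
        right_inv := fun g => by ext; simp [mul_assoc] }
    · have hg : φ ((g : R) : D) (Additive.toMul a) = Additive.toMul a := g.2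
      show φ (d * ((g : R) : D) * d⁻¹) (Additive.toMul b) = Additive.toMul b
      rw [map_mul, map_mul, map_inv, MulAut.mul_apply, MulAut.mul_apply, ← hdab,
        MulAut.inv_apply_self, hg]
    · have hg : φ ((g : R) : D) (Additive.toMul b) = Additive.toMul b := g.2
      show φ (d⁻¹ * ((g : R) : D) * d) (Additive.toMul a) = Additive.toMul a
      rw [map_mul, map_mul, map_inv, MulAut.mul_apply, MulAut.mul_apply, hdab, hg, ← hdab,
        MulAut.inv_apply_self]
  obtain ⟨hc, hfree⟩ := CfsgLib.RankOneSetup.HalfTransitive.main (P := ↥R) (E := Additive Z)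
    (q := 2) hp2 hR Nat.prime_two
    (fun e => by exact congrArg Additive.ofMul (h.sq (Additive.toMul e))) hconst
  refine ⟨hc, fun g hg hg1 z hz => ?_⟩
  exact hfree ⟨g, hg⟩ (fun e => hg1 (congrArg Subtype.val e)) (Additive.ofMul z)
    (congrArg Additive.ofMul hz)

/-- The Fitting subgroup is cyclic and semiregular. -/
theorem Dat.fitting (h : Dat τ φ s₀) :
    IsCyclic (fittingSubgroup D) ∧
      ∀ g ∈ fittingSubgroup D, g ≠ 1 → ∀ z : Z, φ g z = z → z = 1 := by
  set F := fittingSubgroup D with hF
  haveI hFc : F.Characteristic := CfsgLib.Cores.fittingSubgroup_characteristic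
  haveI : F.Normal := inferInstance
  haveI hFn : Group.IsNilpotent F := CfsgLib.Cores.isNilpotent_fittingSubgroup
  have hodd : ∀ p : ℕ, p.Prime → p ∣ Nat.card F → p ≠ 2 := by
    rintro p - hpd rfl
    exact Nat.not_even_iff_odd.2 h.odd
      (even_iff_two_dvd.2 (hpd.trans (Subgroup.card_subgroup_dvd_card F)))
  have key : ∀ (p : ℕ) [Fact p.Prime] (P : Sylow p F), p ∣ Nat.card F →
      IsCyclic P ∧ ∀ g ∈ (P : Subgroup F).map F.subtype, g ≠ 1 → ∀ z : Z, φ g z = z → z = 1 := by
    intro p _ P hpd
    haveI : (P : Subgroup F).Normal := inferInstance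
    haveI : (P : Subgroup F).Characteristic := Sylow.characteristic_of_normal P inferInstance
    haveI : ((P : Subgroup F).map F.subtype).Normal := inferInstance
    obtain ⟨hc, hfree⟩ := h.cyclic_semiregular (hodd p Fact.out hpd) ((P : Subgroup F).map F.subtype)
      (P.isPGroup'.map _)
    exact ⟨((Subgroup.equivMapOfInjective (P : Subgroup F) F.subtype F.subtype_injective).isCyclic).2 hc,
      hfree⟩
  haveI : IsZGroup F := ⟨fun p hp P => by
    haveI := Fact.mk hp
    by_cases hpd : p ∣ Nat.card F
    · exact (key p P hpd).1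
    · haveI : Subsingleton (P : Subgroup F) := by
        rw [← Finite.card_le_one_iff_subsingleton]
        obtain ⟨n, hn⟩ := IsPGroup.iff_card.1 P.isPGroup'
        rw [hn]
        rcases n with _ | n
        · simp
        · exact absurd ((dvd_pow_self p n.succ_ne_zero).trans
            (hn ▸ Subgroup.card_subgroup_dvd_card (P : Subgroup F))) hpd
      exact isCyclic_of_subsingleton⟩
  refine ⟨inferInstance, fun g hg hg1 z hz => ?_⟩
  have ho : orderOf g ≠ 1 := fun e => hg1 (orderOf_eq_one_iff.1 e)
  obtain ⟨r, hr, hrg⟩ := Nat.exists_prime_and_dvd ho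
  haveI := Fact.mk hr
  set x := g ^ (orderOf g / r) with hx
  have hxo : orderOf x = r := orderOf_pow_orderOf_div (orderOf_pos g).ne' hrg
  have hx1 : x ≠ 1 := fun e => hr.ne_one (by rw [← hxo, e, orderOf_one])
  have hxF : x ∈ F := pow_mem hg _
  have hxz : φ x z = z := by
    rw [hx]
    induction orderOf g / r with
    | zero => simp
    | succ i ih => rw [pow_succ, map_mul, MulAut.mul_apply, hz, ih]
  obtain ⟨P⟩ : Nonempty (Sylow r F) := inferInstance
  haveI : (P : Subgroup F).Normal := inferInstance
  have hxP : (⟨x, hxF⟩ : F) ∈ (P : Subgroup F) := by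
    have hp : IsPGroup r (Subgroup.zpowers (⟨x, hxF⟩ : F)) := IsPGroup.of_card (n := 1) (by
      rw [Nat.card_zpowers, Subgroup.orderOf_mk, hxo, pow_one])
    obtain ⟨P', hP'⟩ := hp.exists_le_sylow
    have := Sylow.unique_of_normal P inferInstance
    rw [Subsingleton.elim P P']
    exact hP' (Subgroup.mem_zpowers _)
  refine (key r P ?_).2 x ⟨⟨x, hxF⟩, hxP, rfl⟩ hx1 z hxz
  have := Subgroup.orderOf_dvd_natCard F hxF
  rwa [hxo] at this

/-- The inverted elements are the Fitting subgroup. -/
theorem Dat.inverted_eq (h : Dat τ φ s₀) {k : D} : τ k = k⁻¹ ↔ k ∈ fittingSubgroup D := by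
  obtain ⟨hcyc, hfree⟩ := h.fitting
  haveI := hcyc
  haveI hFc : (fittingSubgroup D).Characteristic := CfsgLib.Cores.fittingSubgroup_characteristic
  haveI : Group.IsSolvable D := Cfsg.Agent.S0205.result h.odd
  have hmem : ∀ f ∈ fittingSubgroup D, ∀ σ : MulAut D, σ f ∈ fittingSubgroup D := fun f hf σ =>
    Subgroup.characteristic_iff_le_comap.1 hFc σ hf
  have hcomm : ∀ f ∈ fittingSubgroup D, ∀ f' ∈ fittingSubgroup D, f * f' = f' * f :=
    fun f hf f' hf' => congrArg Subtype.val
      ((IsCyclic.commGroup (α := fittingSubgroup D)).mul_comm ⟨f, hf⟩ ⟨f', hf'⟩)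
  have hF : ∀ f ∈ fittingSubgroup D, τ f = f⁻¹ := by
    intro f hf
    have hf' := hmem f hf τ
    have hg : f * τ f = 1 := by
      by_contra hne
      refine h.ne (hfree _ (mul_mem hf hf') hne s₀ (h.fix _ ?_))
      rw [map_mul, h.invol, hcomm f hf _ hf']
    exact eq_inv_of_mul_eq_one_right hg
  refine ⟨fun hk => ?_, hF k⟩
  have hk2 : k * k ∈ fittingSubgroup D := by
    refine CfsgLib.Solvable.centralizer_fittingSubgroup_le (Subgroup.mem_centralizer_iff.2 fun f hf => ?_)
    have hc : ∀ g ∈ fittingSubgroup D, k * g * k⁻¹ = k⁻¹ * g * k := by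
      intro g hg
      have hn : k * g * k⁻¹ ∈ fittingSubgroup D := hmem g hg (MulAut.conj k)
      have h1 := hF _ hn
      rw [map_mul, map_mul, map_inv, hk, hF g hg, inv_inv] at h1
      calc k * g * k⁻¹ = (k⁻¹ * g⁻¹ * k)⁻¹ := by rw [h1, inv_inv]
        _ = k⁻¹ * g * k := by group
    calc f * (k * k) = k * (k⁻¹ * f * k) * k := by group
      _ = k * (k * f * k⁻¹) * k := by rw [hc f hf]
      _ = k * k * f := by group
  obtain ⟨n, hn⟩ := h.odd
  have hpow : (k * k) ^ (n + 1) = k := by
    calc (k * k) ^ (n + 1) = k ^ (2 * n + 1) * k := by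
          rw [← pow_two, ← pow_mul, ← pow_succ]
          congr 1
      _ = k := by rw [← hn, pow_card_eq_one', one_mul]
  rw [← hpow]
  exact pow_mem hk2 _

theorem Dat.twist_mem (h : Dat τ φ s₀) (d : D) : d⁻¹ * τ d ∈ fittingSubgroup D := by
  haveI hFc : (fittingSubgroup D).Characteristic := CfsgLib.Cores.fittingSubgroup_characteristic
  haveI : Group.IsSolvable D := Cfsg.Agent.S0205.result h.odd
  refine CfsgLib.Solvable.centralizer_fittingSubgroup_le (Subgroup.mem_centralizer_iff.2 fun f hf => ?_)
  have h1 := h.inverted_eq.2 ((inferInstance : (fittingSubgroup D).Normal).conj_mem f hf d)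
  rw [map_mul, map_mul, map_inv, h.inverted_eq.2 hf] at h1
  have h2 : τ d * f * (τ d)⁻¹ = d * f * d⁻¹ := by
    have := congrArg Inv.inv h1
    simpa [mul_assoc] using this
  calc f * (d⁻¹ * τ d) = d⁻¹ * (d * f * d⁻¹) * τ d := by group
    _ = d⁻¹ * (τ d * f * (τ d)⁻¹) * τ d := by rw [h2]
    _ = d⁻¹ * τ d * f := by group

theorem Dat.conj_inverted (h : Dat τ φ s₀) (d : D) {k : D} (hk : τ k = k⁻¹) :
    τ (d * k * d⁻¹) = (d * k * d⁻¹)⁻¹ := by
  haveI hFc : (fittingSubgroup D).Characteristic := CfsgLib.Cores.fittingSubgroup_characteristic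
  exact h.inverted_eq.2 ((inferInstance : (fittingSubgroup D).Normal).conj_mem k
    (h.inverted_eq.1 hk) d)

/-- The fixed elements act as field automorphisms, so they form a cyclic group. -/
theorem Dat.fixed_cyclic (h : Dat τ φ s₀) (V : Subgroup D) (hV : ∀ v ∈ V, τ v = v) :
    IsCyclic V := by
  classical
  haveI := h.finite
  obtain ⟨hcyc, hfree⟩ := h.fitting
  haveI := hcyc
  haveI hFc : (fittingSubgroup D).Characteristic := CfsgLib.Cores.fittingSubgroup_characteristic
  haveI : Group.IsSolvable D := Cfsg.Agent.S0205.result h.odd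
  have hcomm : ∀ f ∈ fittingSubgroup D, ∀ f' ∈ fittingSubgroup D, f * f' = f' * f :=
    fun f hf f' hf' => congrArg Subtype.val
      ((IsCyclic.commGroup (α := fittingSubgroup D)).mul_comm ⟨f, hf⟩ ⟨f', hf'⟩)
  let act : D →* AddMonoid.End (Additive Z) :=
    { toFun := fun d =>
        ({ toFun := fun e => Additive.ofMul (φ d (Additive.toMul e))
           map_zero' := congrArg Additive.ofMul (map_one (φ d))
           map_add' := fun e e' =>
            congrArg Additive.ofMul (map_mul (φ d) (Additive.toMul e) (Additive.toMul e')) } :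
          Additive Z →+ Additive Z)
      map_one' := AddMonoidHom.ext fun e => by
        show Additive.ofMul (φ 1 (Additive.toMul e)) = e
        rw [map_one]
        rfl
      map_mul' := fun a b => AddMonoidHom.ext fun e => by
        show Additive.ofMul (φ (a * b) (Additive.toMul e)) = _
        rw [map_mul]
        rfl }
  have hact : ∀ (d : D) (z : Z), act d (Additive.ofMul z) = Additive.ofMul (φ d z) := fun _ _ => rfl
  let L : Subring (AddMonoid.End (Additive Z)) :=
    Subring.centralizer (act '' (fittingSubgroup D : Set D))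
  have hLcomm : ∀ r ∈ L, ∀ f ∈ fittingSubgroup D, act f * r = r * act f := fun r hr f hf =>
    Subring.mem_centralizer_iff.1 hr _ ⟨f, hf, rfl⟩
  have horb : ∀ z : Z, z ≠ 1 → ∃ f ∈ fittingSubgroup D, φ f s₀ = z := fun z hz => by
    obtain ⟨k, hk, hkz⟩ := h.trans z hz
    exact ⟨k, h.inverted_eq.1 hk, hkz⟩
  have hactL : ∀ f ∈ fittingSubgroup D, act f ∈ L := fun f hf =>
    Subring.mem_centralizer_iff.2 (by
      rintro _ ⟨g, hg, rfl⟩
      rw [← map_mul, ← map_mul, hcomm f hf g hg])
  have hform : ∀ r ∈ L, r = 0 ∨ ∃ f ∈ fittingSubgroup D, r = act f := by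
    intro r hr
    have hext : ∀ r' ∈ L, r (Additive.ofMul s₀) = r' (Additive.ofMul s₀) → r = r' := by
      intro r' hr' he
      refine AddMonoidHom.ext fun e => ?_
      rcases eq_or_ne (Additive.toMul e) 1 with h1 | h1
      · rw [show e = 0 from h1]
        exact (map_zero (r : Additive Z →+ Additive Z)).trans (map_zero (r' : Additive Z →+ Additive Z)).symm
      · obtain ⟨f, hf, hfe⟩ := horb _ h1
        rw [show e = act f (Additive.ofMul s₀) by rw [hact, hfe, ofMul_toMul]]
        show (r * act f) (Additive.ofMul s₀) = (r' * act f) (Additive.ofMul s₀)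
        rw [← hLcomm r hr f hf, ← hLcomm r' hr' f hf]
        exact congrArg (act f) he
    rcases eq_or_ne (Additive.toMul (r (Additive.ofMul s₀))) 1 with h1 | h1
    · exact Or.inl (hext 0 L.zero_mem h1)
    · obtain ⟨f, hf, hfe⟩ := horb _ h1
      exact Or.inr ⟨f, hf, hext _ (hactL f hf) (by rw [hact, hfe, ofMul_toMul])⟩
  have hLmul : ∀ r s : L, r * s = s * r := by
    rintro ⟨r, hr⟩ ⟨s, hs⟩
    apply Subtype.ext
    show r * s = s * r
    rcases hform s hs with rfl | ⟨f, hf, rfl⟩
    · rw [mul_zero, zero_mul]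
    · exact (hLcomm r hr f hf).symm
  letI : CommRing L := { (inferInstance : Ring L) with mul_comm := hLmul }
  haveI hfinE : Finite (AddMonoid.End (Additive Z)) :=
    Finite.of_injective (fun r => (r : Additive Z → Additive Z)) DFunLike.coe_injective
  haveI : Finite L := inferInstance
  have hne : act 1 ≠ 0 := fun e => h.ne (by
    have := congrArg (fun r : AddMonoid.End (Additive Z) => Additive.toMul (r (Additive.ofMul s₀))) e
    rw [map_one] at this
    exact this)
  have h2 : (2 : L) = 0 := by
    rw [← one_add_one_eq_two]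
    refine Subtype.ext (AddMonoidHom.ext fun e => ?_)
    show e + e = 0
    exact congrArg Additive.ofMul ((pow_two (Additive.toMul e)).symm.trans (h.sq _))
  have hLfield : IsField L :=
    { exists_pair_ne := ⟨1, 0, fun e => hne (by
        have := congrArg Subtype.val e
        rwa [map_one])⟩
      mul_comm := mul_comm
      mul_inv_cancel := by
        rintro ⟨r, hr⟩ hr0
        rcases hform r hr with rfl | ⟨f, hf, rfl⟩
        · exact absurd rfl hr0
        · refine ⟨⟨act f⁻¹, hactL _ (inv_mem hf)⟩, Subtype.ext ?_⟩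
          show act f * act f⁻¹ = 1
          rw [← map_mul, mul_inv_cancel, map_one] }
  letI : Field L := hLfield.toField
  haveI : CharP L 2 := CharTwo.of_one_ne_zero_of_two_eq_zero one_ne_zero h2
  letI : Algebra (ZMod 2) L := ZMod.algebra L 2
  have hmap : ∀ (v : D) (r : L), act v * r * act v⁻¹ ∈ L := by
    rintro v ⟨r, hr⟩
    rcases hform r hr with rfl | ⟨f, hf, rfl⟩
    · show act v * 0 * act v⁻¹ ∈ L
      rw [mul_zero, zero_mul]
      exact L.zero_mem
    · show act v * act f * act v⁻¹ ∈ L
      rw [← map_mul, ← map_mul]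
      exact hactL _ ((inferInstance : (fittingSubgroup D).Normal).conj_mem f hf v)
  have hvv : ∀ v : D, act v⁻¹ * act v = 1 := fun v => by rw [← map_mul, inv_mul_cancel, map_one]
  have hvv' : ∀ v : D, act v * act v⁻¹ = 1 := fun v => by rw [← map_mul, mul_inv_cancel, map_one]
  let σ : V →* (L →+* L) :=
    { toFun := fun v =>
        { toFun := fun r => ⟨act v * r * act (v : D)⁻¹, hmap v r⟩
          map_one' := Subtype.ext (by
            show act v * 1 * act (v : D)⁻¹ = 1
            rw [mul_one, hvv'])
          map_mul' := fun r s => Subtype.ext (by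
            show act v * ((r : AddMonoid.End (Additive Z)) * s) * act (v : D)⁻¹ = _
            show _ = act v * r * act (v : D)⁻¹ * (act v * s * act (v : D)⁻¹)
            simp only [mul_assoc]
            rw [← mul_assoc (act (v : D)⁻¹) (act v), hvv, one_mul])
          map_zero' := Subtype.ext (by
            show act v * 0 * act (v : D)⁻¹ = 0
            rw [mul_zero, zero_mul])
          map_add' := fun r s => Subtype.ext (by
            show act v * ((r : AddMonoid.End (Additive Z)) + s) * act (v : D)⁻¹ =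
              act v * r * act (v : D)⁻¹ + act v * s * act (v : D)⁻¹
            rw [mul_add, add_mul]) }
      map_one' := by
        ext r : 2
        simp
      map_mul' := fun a b => by
        refine RingHom.ext fun r => Subtype.ext ?_
        show act ((a : D) * b) * r * act ((a : D) * b)⁻¹ =
          act a * (act b * r * act (b : D)⁻¹) * act (a : D)⁻¹
        rw [mul_inv_rev, map_mul, map_mul]
        simp only [mul_assoc] }
  have hσi : ∀ (v : V) (r : L), σ v⁻¹ (σ v r) = r := fun v r => by
    rw [← RingHom.comp_apply]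
    show (σ v⁻¹ * σ v) r = r
    rw [← map_mul, inv_mul_cancel, map_one]
    rfl
  let ψ : V →* (L ≃ₐ[ZMod 2] L) :=
    { toFun := fun v => AlgEquiv.ofRingEquiv
        (f := { toFun := σ v
                invFun := σ v⁻¹
                left_inv := hσi v
                right_inv := fun r => by simpa using hσi v⁻¹ r
                map_mul' := map_mul (σ v)
                map_add' := map_add (σ v) })
        (fun x => RingHom.congr_fun (RingHom.ext_zmod ((σ v).comp (algebraMap (ZMod 2) L)) _) x)
      map_one' := by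
        ext r : 1
        show σ 1 r = r
        rw [map_one]
        rfl
      map_mul' := fun a b => by
        ext r : 1
        show σ (a * b) r = σ a (σ b r)
        rw [map_mul]
        rfl }
  refine isCyclic_of_injective ψ ((injective_iff_map_eq_one ψ).2 fun v hv => ?_)
  have hvF : (v : D) ∈ fittingSubgroup D := by
    refine CfsgLib.Solvable.centralizer_fittingSubgroup_le (Subgroup.mem_centralizer_iff.2 fun f hf => ?_)
    have h1 := congrArg (fun g : L ≃ₐ[ZMod 2] L => ((g ⟨act f, hactL f hf⟩ : L) : AddMonoid.End (Additive Z))) hv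
    replace h1 : act v * act f * act (v : D)⁻¹ = act f := h1
    rw [← map_mul, ← map_mul] at h1
    have h2 : φ ((v : D) * f * (v : D)⁻¹) = φ f := MulEquiv.ext fun z =>
      congrArg (fun r : AddMonoid.End (Additive Z) => Additive.toMul (r (Additive.ofMul z))) h1
    exact (mul_inv_eq_iff_eq_mul.1 (h.inj h2)).symm
  by_contra hne
  exact h.ne (hfree (v : D) hvF (fun e => hne (Subtype.ext e)) s₀ (h.fix _ (hV v v.2)))

end CfsgLib.SmallGroups.RankOneCyclic
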