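import Mathlib
import Cfsg.Prelude.Def_LieRecognition
import Cfsg.Agent.Lib.RankOneSetup.Structure
import Cfsg.Agent.Lib.SmallGroups.RankOneCyclic.Semilinear

/-!
The elements of `D` inverted by `t` in the rank-one set-up form a cyclic normal subgroup, and
`C_D(t)` is cyclic modulo their centraliser.
-/

set_option autoImplicit false
set_option linter.style.haveILetI false

namespace CfsgLib.SmallGroups.RankOneCyclic

open MulAction (stabilizer)
open CfsgLib.RankOneSetup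

variable {G Ω : Type*} [Group G] [Finite G] [MulAction G Ω] [FaithfulSMul G Ω] {a : Ω} {t : G}
  {Q : Subgroup G} (hS : Cfsg.IsRankOneSetup G Ω a t Q)

local notation "𝐌" => stabilizer G a
local notation "𝐃" => stabilizer G a ⊓ stabilizer G (t • a)
local notation "𝐊" => Cfsg.invertedBy (stabilizer G a ⊓ stabilizer G (t • a)) t
local notation "𝐈" => Cfsg.involutionsIn (stabilizer G a : Set G)

include hS

/-- The subgroup `I ∪ {1}`. -/
def involSub (h2 : ∃ x y : G, x ≠ 1 ∧ y ≠ 1 ∧ x ≠ y ∧ x * x = 1 ∧ y * y = 1 ∧ x * y = y * x) :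
    Subgroup G where
  carrier := {x | x ∈ 𝐌 ∧ x * x = 1}
  one_mem' := ⟨one_mem _, one_mul 1⟩
  mul_mem' := fun {x y} hx hy => by
    refine ⟨mul_mem hx.1 hy.1, ?_⟩
    by_cases hx1 : x = 1
    · rw [hx1, one_mul]; exact hy.2
    have hc := involutions_central hS h2 (s := x) ⟨hx.1, hx1, hx.2⟩ y
      (mem_Q_of_sq hS hy.1 hy.2)
    calc x * y * (x * y) = x * (y * x) * y := by group
      _ = (x * x) * (y * y) := by rw [← hc]; group
      _ = 1 := by rw [hx.2, hy.2, one_mul]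
  inv_mem' := fun {x} hx => ⟨inv_mem hx.1, by rw [← mul_inv_rev, hx.2, inv_one]⟩

variable (h2 : ∃ x y : G, x ≠ 1 ∧ y ≠ 1 ∧ x ≠ y ∧ x * x = 1 ∧ y * y = 1 ∧ x * y = y * x)

theorem involSub_conj {d x : G} (hd : d ∈ 𝐌) (hx : x ∈ involSub hS h2) :
    d * x * d⁻¹ ∈ involSub hS h2 := by
  refine ⟨mul_mem (mul_mem hd hx.1) (inv_mem hd), ?_⟩
  calc _ = d * (x * x) * d⁻¹ := by group
    _ = 1 := by rw [hx.2]; group

theorem involSub_comm {x y : G} (hx : x ∈ involSub hS h2) (hy : y ∈ involSub hS h2) :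
    x * y = y * x := by
  have h := (mul_mem hx hy).2
  calc x * y = (x * x) * (y * x) * (y * y) := by
        rw [hx.2, hy.2, one_mul, mul_one]
        calc x * y = (x * y)⁻¹ := eq_inv_of_mul_eq_one_left h
          _ = y * x := by rw [mul_inv_rev, inv_eq_of_sq hx.2, inv_eq_of_sq hy.2]
    _ = y * x := by rw [hx.2, hy.2, one_mul, mul_one]

include h2

/-- Main conclusions about `K` and `V = C_D(t)`. -/
theorem exists_generators :
    (∃ k₀ ∈ 𝐊, (∀ k ∈ 𝐊, k ∈ Subgroup.zpowers k₀) ∧ (∀ k ∈ Subgroup.zpowers k₀, k ∈ 𝐊) ∧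
      ∀ d ∈ 𝐃, ∀ k ∈ 𝐊, d * k * d⁻¹ ∈ 𝐊) ∧
    ∃ v ∈ (𝐃) ⊓ Subgroup.centralizer {t}, ∀ u ∈ (𝐃) ⊓ Subgroup.centralizer {t},
      ∃ i : ℤ, (v ^ i)⁻¹ * u ∈ (𝐃) ⊓ Subgroup.centralizer {t} ⊓ Subgroup.centralizer (𝐊) := by
  classical
  obtain ⟨⟨s, r⟩, ⟨hs, hr, he⟩, -⟩ := existsUnique_structure hS
  simp only at hs hr he
  set Zs := involSub hS h2 with hZs
  letI : CommGroup Zs :=
    { (inferInstance : Group Zs) with
      mul_comm := fun x y => Subtype.ext (involSub_comm hS h2 x.2 y.2) }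
  let φ : ↥(𝐃) →* MulAut Zs :=
    { toFun := fun d =>
        { toFun := fun x => ⟨d * x * (d : G)⁻¹, involSub_conj hS h2 (D_le d.2) x.2⟩
          invFun := fun x => ⟨(d : G)⁻¹ * x * d, by
            simpa using involSub_conj hS h2 (inv_mem (D_le d.2)) x.2⟩
          left_inv := fun x => Subtype.ext (by simp [mul_assoc])
          right_inv := fun x => Subtype.ext (by simp [mul_assoc])
          map_mul' := fun x y => Subtype.ext (by simp [mul_assoc]) }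
      map_one' := MulEquiv.ext fun x => Subtype.ext (by simp)
      map_mul' := fun d e => MulEquiv.ext fun x => Subtype.ext (by simp [mul_assoc]) }
  have hφ : ∀ (d : ↥(𝐃)) (x : Zs), ((φ d x : Zs) : G) = d * x * (d : G)⁻¹ := fun d x => rfl
  have htti := t_inv hS
  have htt := hS.mul_self
  let τ : MulAut ↥(𝐃) :=
    { toFun := fun d => ⟨t * d * t⁻¹, conj_t_mem hS d.2⟩
      invFun := fun d => ⟨t * d * t⁻¹, conj_t_mem hS d.2⟩
      left_inv := fun d => Subtype.ext (by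
        show t * (t * d * t⁻¹) * t⁻¹ = d
        rw [htti, show t * (t * d * t) * t = (t * t) * d * (t * t) by simp only [mul_assoc],
          htt, one_mul, mul_one])
      right_inv := fun d => Subtype.ext (by
        show t * (t * d * t⁻¹) * t⁻¹ = d
        rw [htti, show t * (t * d * t) * t = (t * t) * d * (t * t) by simp only [mul_assoc],
          htt, one_mul, mul_one])
      map_mul' := fun d e => Subtype.ext (by simp [mul_assoc]) }
  have hτ : ∀ d : ↥(𝐃), ((τ d : ↥(𝐃)) : G) = t * d * t⁻¹ := fun d => rfl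
  set W := φ.ker with hW
  have hWC : ∀ w ∈ W, (w : G) * t = t * w ∧ ∀ k ∈ 𝐊, (w : G) * k = k * w := by
    intro w hw
    have hmem : (w : G) ∈ (𝐃) ⊓ Subgroup.centralizer (𝐈) := ⟨w.2,
      Subgroup.mem_centralizer_iff.2 fun x hx => by
        have h := congrArg (fun z : Zs => (z : G))
          (DFunLike.congr_fun (MonoidHom.mem_ker.1 hw) (⟨x, hx.1, hx.2.2⟩ : Zs))
        simp only [MulAut.one_apply, hφ] at h
        exact (mul_inv_eq_iff_eq_mul.1 h).symm⟩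
    rw [← centralizer_K hS] at hmem
    exact ⟨Subgroup.mem_centralizer_singleton_iff.1 hmem.1.2,
      fun k hk => (Subgroup.mem_centralizer_iff.1 hmem.2 k hk).symm⟩
  have hWτ : ∀ w ∈ W, τ w = w := fun w hw => Subtype.ext (by
    rw [hτ, ← (hWC w hw).1, mul_inv_cancel_right])
  have hmap : W.map τ.toMonoidHom = W := by
    ext w
    refine ⟨?_, fun hw => ⟨w, hw, hWτ w hw⟩⟩
    rintro ⟨w', hw', rfl⟩
    show τ w' ∈ W
    rw [hWτ w' hw']
    exact hw'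
  let τq : MulAut (↥(𝐃) ⧸ W) := QuotientGroup.congr W W τ hmap
  have hτq : ∀ d : ↥(𝐃), τq (QuotientGroup.mk d) = QuotientGroup.mk (τ d) := fun d => rfl
  let φq := QuotientGroup.kerLift φ
  have hφq : ∀ d : ↥(𝐃), φq (QuotientGroup.mk d) = φ d := fun d => rfl
  let s₀ : Zs := ⟨s, hs.1, hs.2.2⟩
  have hodd : Odd (Nat.card (↥(𝐃) ⧸ W)) := hS.odd_card.of_dvd_nat (Subgroup.card_quotient_dvd_card W)
  have honeW : ∀ w ∈ W, w⁻¹ = w → w = 1 := fun w _ hw2 =>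
    eq_one_of_inv_eq_of_odd hS.odd_card hw2
  have hττ : ∀ d, τ (τ d) = d := fun d => τ.symm_apply_apply d
  have hfixd : ∀ d, τq (QuotientGroup.mk d) = QuotientGroup.mk d → (d : G) * t = t * d := by
    intro d hd
    rw [hτq, eq_comm, QuotientGroup.eq] at hd
    have h1 := hWτ _ hd
    rw [map_mul, map_inv, hττ] at h1
    have h3 : d⁻¹ * τ d = 1 := honeW _ hd (by rw [mul_inv_rev, inv_inv]; exact h1)
    have h4 : t * (d : G) * t⁻¹ = d := congrArg Subtype.val (inv_mul_eq_one.1 h3).symm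
    exact (mul_inv_eq_iff_eq_mul.1 h4).symm
  have hdat : Dat τq φq s₀ := by
    refine ⟨QuotientGroup.kerLift_injective φ, ?_, hodd, fun z => Subtype.ext ?_, ?_, ?_, ?_⟩
    · intro q
      induction q using QuotientGroup.induction_on with
      | H d => rw [hτq, hτq, hττ]
    · show (z : G) ^ 2 = 1
      rw [pow_two]; exact z.2.2
    · exact fun e => hs.2.1 (congrArg Subtype.val e)
    · intro q hq
      induction q using QuotientGroup.induction_on with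
      | H d =>
        refine Subtype.ext ?_
        rw [hφq, hφ]
        exact mul_inv_eq_iff_eq_mul.2 ((centralizer_structure hS hs hr he d.2).1 (hfixd d hq))
    · intro z hz
      obtain ⟨k, hk, hkz⟩ := exists_conj_K hS hs (s' := (z : G))
        ⟨z.2.1, fun e => hz (Subtype.ext e), z.2.2⟩
      refine ⟨QuotientGroup.mk (⟨k, hk.1⟩ : ↥(𝐃))⁻¹, ?_, ?_⟩
      · rw [hτq, ← QuotientGroup.mk_inv]
        congr 1
        rw [map_inv, inv_inj]
        exact Subtype.ext hk.2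
      · refine Subtype.ext ?_
        rw [hφq, hφ, Subgroup.coe_inv, inv_inv]
        exact hkz
  refine ⟨?_, ?_⟩
  · obtain ⟨hcyc, hfree⟩ := hdat.fitting
    obtain ⟨⟨f, hfF⟩, hgen⟩ := hcyc.exists_generator
    have hlift : ∀ q ∈ Cfsg.fittingSubgroup (↥(𝐃) ⧸ W),
        ∃ k : ↥(𝐃), (k : G) ∈ 𝐊 ∧ QuotientGroup.mk k = q := by
      intro q hq
      by_cases h1 : φq q s₀ = 1
      · exact absurd ((map_eq_one_iff _ (φq q).injective).1 h1) hdat.ne
      obtain ⟨k, hk, hkz⟩ := exists_conj_K hS hs (s' := (φq q s₀ : G))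
        ⟨(φq q s₀).2.1, fun e => h1 (Subtype.ext e), (φq q s₀).2.2⟩
      have hk' : k⁻¹ ∈ 𝐊 := ⟨inv_mem hk.1, by rw [← conj_inv, hk.2]⟩
      refine ⟨⟨k⁻¹, hk'.1⟩, hk', ?_⟩
      have hkF : (QuotientGroup.mk (⟨k⁻¹, hk'.1⟩ : ↥(𝐃)) : ↥(𝐃) ⧸ W) ∈
          Cfsg.fittingSubgroup (↥(𝐃) ⧸ W) := by
        refine hdat.inverted_eq.1 ?_
        rw [hτq, ← QuotientGroup.mk_inv]
        exact congrArg _ (Subtype.ext hk'.2)
      by_contra hne
      refine hdat.ne (hfree _ (mul_mem (inv_mem hkF) hq) (fun e => hne (inv_mul_eq_one.1 e)) s₀ ?_)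
      rw [map_mul, MulAut.mul_apply, map_inv]
      apply (φq (QuotientGroup.mk (⟨k⁻¹, hk'.1⟩ : ↥(𝐃)))).injective
      rw [MulAut.apply_inv_self]
      refine Subtype.ext ?_
      show (φq q s₀ : G) = k⁻¹ * s * k⁻¹⁻¹
      rw [inv_inv]
      exact hkz.symm
    obtain ⟨k₀, hk₀, hk₀f⟩ := hlift f hfF
    have hk₀τ : τ k₀ = k₀⁻¹ := Subtype.ext hk₀.2
    have hform : ∀ d : ↥(𝐃), (QuotientGroup.mk d : ↥(𝐃) ⧸ W) ∈
        Cfsg.fittingSubgroup (↥(𝐃) ⧸ W) → ∃ i : ℤ, ∃ w ∈ W, d = k₀ ^ i * w := by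
      intro d hd
      obtain ⟨i, hi⟩ := Subgroup.mem_zpowers_iff.1 (hgen ⟨_, hd⟩)
      refine ⟨i, (k₀ ^ i)⁻¹ * d, ?_, by group⟩
      rw [← QuotientGroup.eq, QuotientGroup.mk_zpow, hk₀f]
      exact congrArg Subtype.val hi
    have hzp : ∀ i : ℤ, ((k₀ ^ i : ↥(𝐃)) : G) ∈ 𝐊 := fun i => ⟨(k₀ ^ i).2, by
      have : τ (k₀ ^ i) = (k₀ ^ i)⁻¹ := by rw [map_zpow, hk₀τ, inv_zpow]
      exact congrArg Subtype.val this⟩
    have hKmem : ∀ d : ↥(𝐃), τ d = d⁻¹ → ∃ i : ℤ, d = k₀ ^ i := by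
      intro d hd
      obtain ⟨i, w, hw, rfl⟩ := hform d (hdat.inverted_eq.1 (by
        rw [hτq, hd, QuotientGroup.mk_inv]))
      refine ⟨i, ?_⟩
      have hc : w * k₀ ^ i = k₀ ^ i * w := Subtype.ext ((hWC w hw).2 _ (hzp i))
      rw [map_mul, map_zpow, hk₀τ, hWτ w hw, ← hc, mul_inv_rev, inv_zpow] at hd
      have : w⁻¹ = w := (mul_left_cancel hd).symm
      rw [honeW w hw this, mul_one]
    refine ⟨k₀, hk₀, fun k hk => ?_, fun k hk => ?_, fun d hd k hk => ?_⟩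
    · obtain ⟨i, hi⟩ := hKmem ⟨k, hk.1⟩ (Subtype.ext hk.2)
      exact Subgroup.mem_zpowers_iff.2 ⟨i, by rw [← SubgroupClass.coe_zpow, ← hi]⟩
    · obtain ⟨i, rfl⟩ := Subgroup.mem_zpowers_iff.1 hk
      rw [← SubgroupClass.coe_zpow]
      exact hzp i
    · obtain ⟨i, hi⟩ := hKmem ⟨k, hk.1⟩ (Subtype.ext hk.2)
      obtain ⟨j, w, hw, hjw⟩ := hform ((⟨d, hd⟩ : ↥(𝐃))⁻¹ * τ ⟨d, hd⟩) (by
        rw [QuotientGroup.mk_mul, QuotientGroup.mk_inv, ← hτq]
        exact hdat.twist_mem _)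
      set d' : ↥(𝐃) := ⟨d, hd⟩
      set k' : ↥(𝐃) := ⟨k, hk.1⟩
      have hτd : τ d' = d' * (k₀ ^ j * w) := by rw [← hjw, mul_inv_cancel_left]
      have hwk : w * k'⁻¹ = k'⁻¹ * w := by
        rw [hi, ← zpow_neg]
        exact Subtype.ext ((hWC w hw).2 _ (hzp (-i)))
      have hjk : k₀ ^ j * k'⁻¹ = k'⁻¹ * k₀ ^ j := by
        rw [hi, ← zpow_neg, ← zpow_add, ← zpow_add, add_comm]
      have hfin : τ (d' * k' * d'⁻¹) = (d' * k' * d'⁻¹)⁻¹ := by
        rw [map_mul, map_mul, map_inv, hτd, show τ k' = k'⁻¹ from Subtype.ext hk.2]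
        calc d' * (k₀ ^ j * w) * k'⁻¹ * (d' * (k₀ ^ j * w))⁻¹ =
            d' * (k₀ ^ j * (w * k'⁻¹)) * (d' * (k₀ ^ j * w))⁻¹ := by group
          _ = d' * (k₀ ^ j * k'⁻¹ * w) * (d' * (k₀ ^ j * w))⁻¹ := by rw [hwk]; group
          _ = (d' * k' * d'⁻¹)⁻¹ := by rw [hjk]; group
      exact ⟨mul_mem (mul_mem hd hk.1) (inv_mem hd), congrArg Subtype.val hfin⟩
  · set V : Subgroup ↥(𝐃) := ((𝐃) ⊓ Subgroup.centralizer {t}).subgroupOf (𝐃) with hV
    haveI := hdat.fixed_cyclic (V.map (QuotientGroup.mk' W)) (by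
      rintro _ ⟨v, hv, rfl⟩
      show τq (QuotientGroup.mk v) = QuotientGroup.mk v
      rw [hτq]
      refine congrArg _ (Subtype.ext ?_)
      have hc : (v : G) * t = t * v := Subgroup.mem_centralizer_singleton_iff.1 hv.2
      rw [hτ, ← hc, mul_inv_cancel_right])
    obtain ⟨⟨g, hg⟩, hgen⟩ := (inferInstance : IsCyclic (V.map (QuotientGroup.mk' W))).exists_generator
    obtain ⟨v, hv, hvg⟩ := hg
    refine ⟨v, hv, fun u hu => ?_⟩
    obtain ⟨i, hi⟩ := Subgroup.mem_zpowers_iff.1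
      (hgen ⟨_, ⟨⟨u, hu.1⟩, hu, rfl⟩⟩)
    refine ⟨i, ?_⟩
    have hw : (v ^ i)⁻¹ * (⟨u, hu.1⟩ : ↥(𝐃)) ∈ W := by
      rw [← QuotientGroup.eq, QuotientGroup.mk_zpow]
      have h' : g ^ i = QuotientGroup.mk' W (⟨u, hu.1⟩ : ↥(𝐃)) := congrArg Subtype.val hi
      rw [← hvg] at h'
      exact h'
    have hcoe : (((v ^ i)⁻¹ * (⟨u, hu.1⟩ : ↥(𝐃)) : ↥(𝐃)) : G) = ((v : G) ^ i)⁻¹ * u := by simp
    rw [← hcoe]
    exact ⟨⟨((v ^ i)⁻¹ * (⟨u, hu.1⟩ : ↥(𝐃))).2, Subgroup.mem_centralizer_singleton_iff.2 (hWC _ hw).1⟩,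
      Subgroup.mem_centralizer_iff.2 fun k hk => ((hWC _ hw).2 k hk).symm⟩

end CfsgLib.SmallGroups.RankOneCyclic
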